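import Cfsg.Agent.H604.Spr.Plus

/-!
# S3938, orthogonal groups: the main argument of helper604 with a list of overgroups (helper637)

`spr_coreB` : as `H604.Spr.spr_core`, the hypothesis on the overgroups concerns only the conjugates of `A`.
-/

set_option autoImplicit false
set_option linter.unusedSectionVars false

namespace Cfsg.Agent.H637.Spr

open Cfsg Cfsg.Geo Module
open QuadraticMap hiding proj
open Cfsg.Agent.LieClassical.OrthCore Cfsg.Agent.LieClassical.OrthTrans Cfsg.Agent.LieClassical.OrthSimple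
open Cfsg.Agent.LieClassical.OrthFinite
open Cfsg.Agent.AutOrth.SemiSim (IsSemi conjL conjL_apply conjL_apply' conjLHom conjL_mem_E)
open Cfsg.Agent.H383.Cov (emb emb_injective range_emb map_emb_le map_emb_ne Blk NumEl Dims OgO omegaGL_le polar_isom
  comm_of_coprime dvd_finrank orderOf_conj exists_fix toLin_pow_orderOf eq_zero_of_fix finrank_add)
open Cfsg.Agent.H278.Cov (Red Ext Num)
open Cfsg.Agent.H604.Spr
open scoped MatrixGroups Matrix

variable {ι : Type} [Fintype ι] [DecidableEq ι] {F : Type} [Field F] [Fintype F] {Q : QuadraticForm F (ι → F)}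
  {T : (ι → F) ≃+ (ι → F)} {σ : F ≃+* F} {μ : F}

/-- the overgroups of the conjugates of `A` are reducible or normalise a field of degree 2 -/
def OgA (Q : (ι → F) → F) (A : GL ι F) : Prop :=
  ∀ H : Subgroup (GL ι F), H ≤ omegaGL Q → H ≠ omegaGL Q → ∀ g ∈ omegaGL Q, g * A * g⁻¹ ∈ H →
    Red H ∨ ∃ K : Subalgebra F (Matrix ι ι F), IsFieldSubalgebra 2 K ∧ H ≤ subalgebraNormalizer K

theorem OgA.conj {Q : (ι → F) → F} {A : GL ι F} (h : OgA Q A) {g : GL ι F} (hg : g ∈ omegaGL Q) :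
    OgA Q (g * A * g⁻¹) := by
  intro H hle hne g' hg' hm
  refine h H hle hne (g' * g) ((omegaGL Q).mul_mem hg' hg) ?_
  have e : g' * g * A * (g' * g)⁻¹ = g' * (g * A * g⁻¹) * g'⁻¹ := by group
  rw [e]
  exact hm

/-- **The field of a bad group.** -/
theorem field_of_bad [Nonempty ι] (hG : Good Q) (hM : IsSemi Q T σ μ) {A : GL ι F} (og : OgA ⇑Q A) {a e i : ℕ}
    (hn : Fintype.card ι = 2 * a + 2 * e) (hae : e < a)
    (hb : Blk (2 * a) (A ^ i)) (ho : Odd (orderOf (A ^ i)))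
    (dA : Dims A {0, 2 * e, 2 * a, Fintype.card ι}) {H : Subgroup (GL ι F)} (hH : Bad hM H) (hAH : A ∈ H)
    {w₁ : ι → F} (hw₁ : w₁ ∈ Fx (A ^ i)) (hTw₁ : T w₁ ∉ Fx (A ^ i)) :
    ∃ K : Subalgebra F (Matrix ι ι F), IsFieldSubalgebra 2 K ∧
      (∀ e ∈ K, ((A ^ i : GL ι F) : Matrix ι ι F) * e = e * ((A ^ i : GL ι F) : Matrix ι ι F)) ∧
      ∀ e ∈ K, ∀ u ∈ UU hM (A ^ i), e *ᵥ u ∈ UU hM (A ^ i) := by
  set x : GL ι F := A ^ i with hx
  have hxH : x ∈ H := H.pow_mem hAH i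
  have hiso : H ≤ isometryGroup F ⇑Q := hH.le.trans (omegaGL_le _)
  have hR : finrank F (Rx x) = 2 * a := hb.rk
  have hW : finrank F (Fx x) = 2 * e := by
    have := finrank_FR x
    omega
  -- `H` is irreducible
  have hirr : ¬ Red H := by
    rintro ⟨X, hX0, hX1, hX⟩
    have hXinv : ∀ z ∈ H, ∀ w ∈ X, (z : Matrix ι ι F) *ᵥ w ∈ X := fun z hz w hw => (hX hz w).1 hw
    have hd := dA X (hXinv A hAH)
    have hX0' : finrank F X ≠ 0 := fun h => hX0 (Submodule.finrank_eq_zero.1 h)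
    have hX1' : finrank F X ≠ Fintype.card ι := by
      intro h
      apply hX1
      apply Submodule.eq_top_of_finrank_eq
      rw [h, Module.finrank_fintype_fun_eq_card]
    simp only [Set.mem_insert_iff, Set.mem_singleton_iff] at hd
    -- `Fx x` is invariant
    have hWinv : ∀ h ∈ H, ∀ w ∈ Fx x, (h : Matrix ι ι F) *ᵥ w ∈ Fx x := by
      rcases hb.le_or_le (hXinv x hxH) with h1 | h1
      · have h2 : X = Fx x := by
          apply Submodule.eq_of_le_of_finrank_le h1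
          change finrank F (Fx x) ≤ _
          omega
        rw [← h2]
        exact hXinv
      · have h2 : Rx x = X := by
          apply Submodule.eq_of_le_of_finrank_le h1
          have := Submodule.finrank_mono h1
          change finrank F (Rx x) ≤ _ at this
          change _ ≤ finrank F (Rx x)
          omega
        intro h hh w hw
        rw [mem_Fx_iff hG.nondeg (hiso hxH)] at hw ⊢
        intro r hr
        have h3 : ((h⁻¹ : GL ι F) : Matrix ι ι F) *ᵥ r ∈ Rx x := by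
          rw [h2] at hr ⊢
          exact hXinv _ (H.inv_mem hh) r hr
        have h4 := hw _ h3
        rw [← polar_isom (hiso hh), Matrix.mulVec_mulVec, ← Units.val_mul, mul_inv_cancel, Units.val_one,
          Matrix.one_mulVec] at h4
        exact h4
    -- `T (Fx x)` is invariant
    have hTinv : ∀ w ∈ TF hM x, (x : Matrix ι ι F) *ᵥ w ∈ TF hM x := by
      rintro _ ⟨w, hw, rfl⟩
      obtain ⟨h', hh', hx'⟩ := hH.surj hxH
      refine ⟨_, hWinv h' hh' w hw, ?_⟩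
      rw [← tg_apply hM, hx']
    rcases hb.le_or_le hTinv with h1 | h1
    · exact hTw₁ (h1 ⟨w₁, hw₁, rfl⟩)
    · have h2 := Submodule.finrank_mono h1
      rw [finrank_TF, hW] at h2
      change finrank F (Rx x) ≤ _ at h2
      omega
  -- the field
  obtain ⟨K, hK, hN⟩ := (og H hH.le hH.ne 1 (omegaGL ⇑Q).one_mem (by rwa [one_mul, inv_one, mul_one])).resolve_left
    hirr
  have hcomm : ∀ z ∈ H, Odd (orderOf z) → ∀ e ∈ K, (z : Matrix ι ι F) * e = e * z := fun z hz ho e he =>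
    comm_of_coprime hK (hN hz) (Nat.coprime_two_right.2 ho) he
  have hcx := hcomm x hxH ho
  refine ⟨K, hK, hcx, fun e he u hu => ?_⟩
  obtain ⟨h1, w, hw, w', hw', rfl⟩ := mem_UU.1 hu
  have hx' : tg hM x ∈ H := hH.inv x hxH
  have ho' : Odd (orderOf (tg hM x)) := by
    rw [orderOf_injective (tg hM) (tg_injective hM)]
    exact ho
  have hcx' := hcomm _ hx' ho' e he
  have h2 : e *ᵥ T w' = T (T.symm (e *ᵥ T w')) := (T.apply_symm_apply _).symm
  have h3 : T.symm (e *ᵥ T w') ∈ Fx x := by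
    rw [mem_Fx]
    apply T.injective
    rw [← tg_apply hM, T.apply_symm_apply, Matrix.mulVec_mulVec, hcx', ← Matrix.mulVec_mulVec, tg_apply hM,
      mem_Fx.1 hw']
  refine mem_UU.2 ⟨Rx_comm (hcx e he) h1, e *ᵥ w, Fx_comm (hcx e he) hw, _, h3, ?_⟩
  rw [Matrix.mulVec_add, ← h2]

/-- **The core.** -/
theorem exists_good [Nonempty ι] (hG : Good Q) (hM : IsSemi Q T σ μ) {A : GL ι F} (og : OgA ⇑Q A)
    (hA : A ∈ omegaGL ⇑Q) {a e i : ℕ}
    (hn : Fintype.card ι = 2 * a + 2 * e) (hae : e < a) (ha : 4 ≤ a)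
    (hb : Blk (2 * a) (A ^ i)) (ho : Odd (orderOf (A ^ i)))
    (dA : Dims A {0, 2 * e, 2 * a, Fintype.card ι})
    {w₁ : ι → F} (hw₁ : w₁ ∈ Fx (A ^ i)) (hTw₁ : T w₁ ∉ Fx (A ^ i)) :
    ∃ B ∈ omegaGL ⇑Q, ∀ H, Bad hM H → B ∉ H := by
  by_contra hcon
  push Not at hcon
  set x : GL ι F := A ^ i with hx
  have hxQ : x ∈ isometryGroup F ⇑Q := omegaGL_le _ ((omegaGL ⇑Q).pow_mem hA i)
  have hR : finrank F (Rx x) = 2 * a := hb.rk
  have hW : finrank F (Fx x) = 2 * e := by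
    have := finrank_FR x
    omega
  have hXM := toLin_pow_orderOf x
  -- the sum
  have hsum : ∀ v : ι → F, ∃ w ∈ Fx x, ∃ r ∈ Rx x, v = w + r := by
    intro v
    obtain ⟨w, z, h1, h2⟩ := exists_fix hXM hb.copq v
    exact ⟨w, mem_Fx.2 h1, _, mem_Rx.2 ⟨z, rfl⟩, h2⟩
  have hdisj : ∀ v, v ∈ Fx x → v ∈ Rx x → v = 0 := by
    intro v h1 h2
    obtain ⟨z, hz⟩ := mem_Rx.1 h2
    exact eq_zero_of_fix hXM hb.copq (v := z) hz.symm (mem_Fx.1 h1)
  -- elements of `Gam`
  have hgamR : ∀ g ∈ Gam Q (Rx x), ∀ v, v ∈ Rx x → g v ∈ Rx x := by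
    intro g hg v hv
    obtain ⟨w, hw, r, hr, hvr⟩ := hsum (g v)
    have h1 : w = 0 := by
      have h2 : ∀ y, polar Q w y = 0 := by
        intro y
        obtain ⟨w', hw', r', hr', rfl⟩ := hsum y
        rw [polar_add_right, polar_comm Q w r', polar_RF hxQ hw hr', add_zero]
        have h3 : polar Q (g v) w' = 0 := by
          have h4 : g w' = w' := hg.2 w' fun r hr => polar_RF hxQ hw' hr
          rw [← h4, polar_map (E_le_O hg.1)]
          exact polar_RF hxQ hw' hv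
        rw [hvr, polar_add_left, polar_RF hxQ hw' hr, add_zero] at h3
        exact h3
      exact hG.nondeg w h2
    rw [hvr, h1, zero_add]
    exact hr
  -- the field for `g`
  have hfield : ∀ g ∈ Gam Q (Rx x), ∃ K : Subalgebra F (Matrix ι ι F), IsFieldSubalgebra 2 K ∧
      (∀ e ∈ K, (x : Matrix ι ι F) * e = e * x) ∧
      ∀ e ∈ K, ∀ u ∈ UU hM x, e *ᵥ g u ∈ (UU hM x).map (g : (ι → F) →ₗ[F] (ι → F)) := by
    intro g hg
    obtain ⟨γ, hγ, hγg⟩ := exists_om hG ((Gam Q (Rx x)).inv_mem hg).1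
    have hγv : ∀ v, (γ : Matrix ι ι F) *ᵥ v = g.symm v := by
      intro v
      rw [← glEquiv_apply, hγg]
      rfl
    have hγv' : ∀ v, ((γ⁻¹ : GL ι F) : Matrix ι ι F) *ᵥ v = g v := by
      intro v
      rw [← glEquiv_apply, map_inv, hγg, inv_inv]
    obtain ⟨H, hH, hAH⟩ := hcon (γ * A * γ⁻¹)
      ((omegaGL ⇑Q).mul_mem ((omegaGL ⇑Q).mul_mem hγ hA) ((omegaGL ⇑Q).inv_mem hγ))
    have hpow : (γ * A * γ⁻¹) ^ i = γ * x * γ⁻¹ := by rw [hx, conj_pow]
    have hgR' : ∀ v, v ∈ Rx x ↔ g v ∈ Rx x := by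
      intro v
      refine ⟨hgamR g hg v, fun h => ?_⟩
      have h1 := hgamR _ ((Gam Q (Rx x)).inv_mem hg) _ h
      change g.symm (g v) ∈ Rx x at h1
      rwa [LinearEquiv.symm_apply_apply] at h1
    have hgF : ∀ v ∈ Fx x, g v = v := fun v hv => hg.2 v fun r hr => polar_RF hxQ hv hr
    have hFx : Fx (γ * x * γ⁻¹) = Fx x := by
      have h1 : ∀ v ∈ Fx x, v ∈ Fx (γ * x * γ⁻¹) := by
        intro v hv
        rw [mem_Fx, Units.val_mul, Units.val_mul, ← Matrix.mulVec_mulVec, ← Matrix.mulVec_mulVec, hγv', hgF v hv,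
          mem_Fx.1 hv, hγv, LinearEquiv.symm_apply_eq, hgF v hv]
      symm
      apply Submodule.eq_of_le_of_finrank_le h1
      have h2 := finrank_FR (γ * x * γ⁻¹)
      have h3 : finrank F (Rx (γ * x * γ⁻¹)) = 2 * a := (hb.conj γ).rk
      omega
    have hRx : Rx (γ * x * γ⁻¹) = Rx x := by
      have h1 : Rx (γ * x * γ⁻¹) ≤ Rx x := by
        intro v hv
        obtain ⟨z, rfl⟩ := mem_Rx.1 hv
        rw [hgR', map_sub, Units.val_mul, Units.val_mul, ← Matrix.mulVec_mulVec, ← Matrix.mulVec_mulVec, hγv', hγv,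
          LinearEquiv.apply_symm_apply]
        exact mem_Rx.2 ⟨g z, rfl⟩
      apply Submodule.eq_of_le_of_finrank_le h1
      have h3 : finrank F (Rx (γ * x * γ⁻¹)) = 2 * a := (hb.conj γ).rk
      omega
    have hUU : UU hM (γ * x * γ⁻¹) = UU hM x := by
      ext u
      rw [mem_UU, mem_UU, hFx, hRx]
    obtain ⟨K, hK, hc, hU⟩ := field_of_bad hG hM (A := γ * A * γ⁻¹) (og.conj hγ) (i := i) hn hae
      (by rw [hpow]; exact hb.conj γ) (by rw [hpow, orderOf_conj]; exact ho) (dA.conj γ) hH hAH (w₁ := w₁)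
      (by rw [hpow, hFx]; exact hw₁) (by rw [hpow, hFx]; exact hTw₁)
    rw [hpow] at hc hU
    rw [hUU] at hU
    refine ⟨K.map (cj γ⁻¹), field_conj hK γ⁻¹, ?_, ?_⟩
    · rintro _ ⟨e, he, rfl⟩
      have h1 := hc e he
      change (x : Matrix ι ι F) * cj γ⁻¹ e = cj γ⁻¹ e * x
      rw [cj_apply, inv_inv]
      have h2 : ((γ⁻¹ : GL ι F) : Matrix ι ι F) * (γ : Matrix ι ι F) = 1 := by
        rw [← Units.val_mul, inv_mul_cancel, Units.val_one]
      rw [Units.val_mul, Units.val_mul] at h1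
      calc (x : Matrix ι ι F) * (((γ⁻¹ : GL ι F) : Matrix ι ι F) * e * (γ : Matrix ι ι F))
          = (((γ⁻¹ : GL ι F) : Matrix ι ι F) * (γ : Matrix ι ι F)) * x * (((γ⁻¹ : GL ι F) : Matrix ι ι F)) * e *
            (γ : Matrix ι ι F) := by rw [h2, one_mul]; simp only [mul_assoc]
        _ = ((γ⁻¹ : GL ι F) : Matrix ι ι F) * ((γ : Matrix ι ι F) * x * (((γ⁻¹ : GL ι F) : Matrix ι ι F)) * e) *
            (γ : Matrix ι ι F) := by simp only [mul_assoc]
        _ = ((γ⁻¹ : GL ι F) : Matrix ι ι F) * e * (γ : Matrix ι ι F) * x *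
            (((γ⁻¹ : GL ι F) : Matrix ι ι F) * (γ : Matrix ι ι F)) := by rw [h1]; simp only [mul_assoc]
        _ = _ := by rw [h2, mul_one]
    · rintro _ ⟨e, he, rfl⟩ u hu
      refine ⟨e *ᵥ u, hU e he u hu, ?_⟩
      change g (e *ᵥ u) = (cj γ⁻¹ e) *ᵥ (g u)
      rw [cj_apply, inv_inv, ← Matrix.mulVec_mulVec, ← Matrix.mulVec_mulVec, hγv, LinearEquiv.symm_apply_apply, hγv']
  -- the first field
  obtain ⟨K₁, hK₁, hc₁, -⟩ := hfield 1 (Gam Q (Rx x)).one_mem
  have hnd : Nondeg (Q.comp (Rx x).subtype) := by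
    intro r hr
    apply Subtype.ext
    apply hG.nondeg
    intro y
    obtain ⟨w', hw', r', hr', rfl⟩ := hsum y
    rw [polar_add_right, polar_RF hxQ hw' r.2, zero_add]
    have h1 := hr ⟨r', hr'⟩
    simp only [polar, QuadraticMap.comp_apply, map_add, Submodule.subtype_apply] at h1
    exact h1
  have hU0 : UU hM x ≠ ⊥ := by
    intro h
    obtain ⟨w, hw, r, hr, hwr⟩ := hsum (T w₁)
    have h1 : r ∈ UU hM x := mem_UU.2 ⟨hr, -w, (Fx x).neg_mem hw, w₁, hw₁, by rw [hwr]; abel⟩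
    rw [h, Submodule.mem_bot] at h1
    rw [h1, add_zero] at hwr
    exact hTw₁ (hwr ▸ hw)
  have hUR : UU hM x ≠ Rx x := by
    intro h
    have h1 : (⊤ : Submodule F (ι → F)) ≤ Fx x ⊔ TF hM x := by
      intro v _
      obtain ⟨w, hw, r, hr, rfl⟩ := hsum v
      rw [← h] at hr
      obtain ⟨-, z, hz, z', hz', rfl⟩ := mem_UU.1 hr
      exact Submodule.add_mem _ (Submodule.mem_sup_left hw)
        (Submodule.add_mem _ (Submodule.mem_sup_left hz) (Submodule.mem_sup_right ⟨z', hz', rfl⟩))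
    have h2 := Submodule.finrank_mono h1
    rw [finrank_top, Module.finrank_fintype_fun_eq_card] at h2
    have h3 := Submodule.finrank_add_le_finrank_add_finrank (Fx x) (TF hM x)
    rw [finrank_TF] at h3
    omega
  obtain ⟨g, hg, hgU⟩ := move (Q := Q) (R := Rx x) hnd (by omega)
    (𝓔 := {f | ∃ e ∈ K₁, ∀ v, f v = e *ᵥ v}) (by
      intro X hX hX0 hinv
      have h1 : 2 ∣ finrank F X := dvd_finrank hK₁ X fun e he w hw => by
        have := hinv (Matrix.toLin' e) ⟨e, he, fun v => Matrix.toLin'_apply e v⟩ w hw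
        rwa [Matrix.toLin'_apply] at this
      have h2 : finrank F X ≠ 0 := fun h => hX0 (Submodule.finrank_eq_zero.1 h)
      exact Nat.le_of_dvd (Nat.pos_of_ne_zero h2) h1) (U := UU hM x) (fun u hu => (mem_UU.1 hu).1) hU0 hUR
  apply hgU
  rintro f ⟨e, he', hf⟩ _ ⟨u, hu, rfl⟩
  rw [hf]
  change e *ᵥ (g u) ∈ _
  obtain ⟨K, hK, hc, hU⟩ := hfield g hg
  obtain ⟨e', he'', hee⟩ := uniq (by omega) hb hK₁ hK hc₁ hc he'
  rw [hee _ (hgamR g hg u (mem_UU.1 hu).1)]
  exact hU e' he'' u hu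

/-- **The core for an automorphism.** -/
theorem spr_coreB [Nonempty ι] (hG : Good Q) {A : GL ι F} (og : OgA ⇑Q A)
    (hA : A ∈ omegaGL ⇑Q) {a e i : ℕ}
    (hn : Fintype.card ι = 2 * a + 2 * e) (he : 1 ≤ e) (hae : e < a) (ha : 4 ≤ a)
    (hb : Blk (2 * a) (A ^ i)) (ho : Odd (orderOf (A ^ i)))
    (dA : Dims A {0, 2 * e, 2 * a, Fintype.card ι}) {α : MulAut (POmega F ⇑Q)}
    (hα : AutOrth.Main.Ind ⇑Q α) (hα1 : α ≠ 1) :
    ∃ x : POmega F ⇑Q, ∀ K : Subgroup (POmega F ⇑Q), x ∈ K → (∀ k ∈ K, α k ∈ K) → K = ⊤ := by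
  obtain ⟨σ, μ, T, ⟨h1, h2, h3⟩, h4⟩ := hα
  have hM : IsSemi Q T σ μ := ⟨h1, h2, h3⟩
  have hR : finrank F (Rx (A ^ i)) = 2 * a := hb.rk
  have hW : finrank F (Fx (A ^ i)) = 2 * e := by
    have := finrank_FR (A ^ i)
    omega
  obtain ⟨k, hk, w, hw, hTw⟩ := exists_moved hG hM h4 hα1 (Fx (A ^ i)) (by
      intro h
      rw [h, finrank_bot] at hW
      omega) (by
      intro h
      rw [h, finrank_top, Module.finrank_fintype_fun_eq_card] at hW
      omega)
  have hpow : (k⁻¹ * A * k) ^ i = k⁻¹ * A ^ i * k := by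
    have := conj_pow (a := k⁻¹) (b := A) (i := i)
    rwa [inv_inv] at this
  have hmem : ∀ v, v ∈ Fx (k⁻¹ * A ^ i * k) ↔ (k : Matrix ι ι F) *ᵥ v ∈ Fx (A ^ i) := by
    intro v
    rw [mem_Fx, mem_Fx, Units.val_mul, Units.val_mul, ← Matrix.mulVec_mulVec, ← Matrix.mulVec_mulVec]
    constructor
    · intro h
      have h5 := congrArg (fun u => (k : Matrix ι ι F) *ᵥ u) h
      simp only [Matrix.mulVec_mulVec] at h5
      rw [← mul_assoc, ← Units.val_mul, mul_inv_cancel, Units.val_one, one_mul] at h5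
      rw [Matrix.mulVec_mulVec]
      exact h5
    · intro h
      rw [h, Matrix.mulVec_mulVec, ← Units.val_mul, inv_mul_cancel, Units.val_one, Matrix.one_mulVec]
  obtain ⟨B, hB, hB'⟩ := exists_good hG hM (A := k⁻¹ * A * k) (i := i)
    (by
      have := og.conj ((omegaGL ⇑Q).inv_mem hk)
      rwa [inv_inv] at this)
    ((omegaGL ⇑Q).mul_mem ((omegaGL ⇑Q).mul_mem ((omegaGL ⇑Q).inv_mem hk) hA) hk) hn hae ha
    (by
      rw [hpow]
      have := hb.conj k⁻¹
      rwa [inv_inv] at this)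
    (by
      rw [hpow]
      have := orderOf_conj k⁻¹ (A ^ i)
      rw [inv_inv] at this
      rw [this]
      exact ho)
    (by
      have := dA.conj k⁻¹
      rwa [inv_inv] at this) (w₁ := w) (by rw [hpow, hmem]; exact hw) (by rw [hpow, hmem]; exact hTw)
  exact exists_of_bad hG hM h4 hB hB'

end Cfsg.Agent.H637.Spr
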