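import Cfsg.Agent.H604.Spr.Plus

/-!
# S3938: `Ω⁺₁₆(2)` (helper637)
-/

set_option autoImplicit false

namespace Cfsg.Agent.H637.Spr

open Cfsg Cfsg.Agent.H383.Cov
open Cfsg.Agent.H659.CovCore (S5948Stmt)

/-- **`Ω⁺₁₆(2)`** : `neg 7 + neg 1` -/
theorem spr_plus_16 {F : Type} [Field F] [Fintype F] (hP : S5948Stmt.{0}) (hF : Fintype.card F = 2) :
    H424.Spr.Spr (POmega F (quadFormPlus 8 F)) := by
  have hpp : IsPrimePow (Fintype.card F) := Fintype.isPrimePow_card_of_field
  refine H604.Spr.core_plus hP (a := 7) (e := 1) (N := 3) rfl (by norm_num) (by norm_num) (by norm_num) (by norm_num) ?_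
    (H906.Cov.exists_num hpp (by norm_num) (by norm_num) (by norm_num) (by norm_num) (by norm_num))
    (by rw [hF]; norm_num) ?_
  · intro r hr h
    exact (Nat.prime_dvd_prime_iff_eq hr Nat.prime_two).1 (by simpa using h)
  · intro j hj hj6
    rw [hF]
    interval_cases j; decide

end Cfsg.Agent.H637.Spr
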