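import Cfsg.Agent.H637.Spr.CoreB
import Cfsg.Agent.H637.Spr.Big
import Cfsg.Agent.H637.Spr.Sixteen

/-!
# S3938: `Ω⁺₁₂(2)` (helper637)

`spr_plus_twelve` : `neg 5 + neg 1` (order 33): the maximal overgroups are reducible or normalise a field of degree 2.
-/

set_option autoImplicit false
set_option linter.unusedSectionVars false
set_option linter.style.haveILetI false

namespace Cfsg.Agent.H637.Spr

open Module Cfsg Cfsg.Geo QuadraticMap
open Cfsg.Agent.LieClassical.OrthCore Cfsg.Agent.LieClassical.OrthForms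
open Cfsg.Agent.H182.Sign
open Cfsg.Agent.H383.Cov
open Cfsg.Agent.H278.Cov (Red Ext Num)
open Cfsg.Agent.H989.Cov (ResM ResP)
open scoped MatrixGroups Matrix Pointwise

variable {F : Type} [Field F] [Fintype F]

theorem red_mono {ι : Type} [Fintype ι] [DecidableEq ι] {H M : Subgroup (GL ι F)} (hHM : H ≤ M) (h : Red M) : Red H := by
  obtain ⟨W, h0, h1, hW⟩ := h
  exact ⟨W, h0, h1, hHM.trans hW⟩

/-- **`Ω⁺₁₂(2)`** (`hres` : the residual class is empty, `H989.Cov.resP_of_list`) -/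
theorem spr_plus_twelve (hres : ∀ Q : QuadraticForm F (Fin 12 → F), Sg Q 6 1 → ResP ⇑Q) (hF : Fintype.card F = 2) :
    H424.Spr.Spr (POmega F (quadFormPlus 6 F)) := by
  let e : Fin 6 ⊕ Fin 6 ≃ Fin 12 := Fintype.equivFinOfCardEq (by simp)
  let j : (Fin 6 ⊕ Fin 6 → F) ≃ₗ[F] (Fin 12 → F) := LinearEquiv.funCongrLeft F F e.symm
  let Q : QuadraticForm F (Fin 12 → F) := (plusForm 6 F).comp (j.symm : (Fin 12 → F) →ₗ[F] (Fin 6 ⊕ Fin 6 → F))
  have hj : ∀ v, Q (j v) = plusForm 6 F v := fun v => by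
    change plusForm 6 F (j.symm (j v)) = _
    rw [j.symm_apply_apply]
  have hs : Sg Q 6 1 := (sg_plusForm (F := F) 6).congr j hj
  rw [← coe_plusForm]
  obtain ⟨e2⟩ := pomega_congr j hj
  refine H424.Spr.Spr.congr e2.symm ?_
  have hn : Fintype.card (Fin 12) = 12 := Fintype.card_fin 12
  have hQ' : IsNondegenerateQuadraticForm ⇑Q := isNondeg hs.nondeg
  have h5 : 5 ≤ Fintype.card (Fin 12) := by rw [hn]; norm_num
  have hG := LieClassical.OrthFinite.good_of_finite hs.nondeg (by rwa [Module.finrank_fintype_fun_eq_card])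
  obtain ⟨A, hA, oA, dA, bA, -⟩ := exists_two (a := 5) (b := 1) (m := 6) (M := 11) (N := 3) hs rfl (by norm_num)
    (by norm_num) (by norm_num) (by rw [hF]; norm_num) (by decide) (by norm_num)
    (by
      rw [hF]
      intro j h1 h2
      interval_cases j <;> decide) (by rw [hF]; norm_num) (by decide) (by norm_num)
    (by
      rw [hF]
      intro j h1 h2
      interval_cases j; decide) (by decide)
  obtain ⟨i, o1, b1⟩ := bA (H989.Cov.bn_of hF H989.Cov.bn_11)
  have og : OgA ⇑Q A := by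
    intro H hle hne g hg hgA
    obtain ⟨M, hM, hHM⟩ := H905.exists_isMaximalIn_of_lt (lt_of_le_of_ne hle hne)
    have hx := M.pow_mem (hHM hgA) i
    rw [conj_pow] at hx
    have bB : H989.Cov.Bp 10 (g * A ^ i * g⁻¹) :=
      (⟨by rw [o1]; norm_num, by rw [o1]; norm_num, b1⟩ : H989.Cov.Bp 10 (A ^ i)).conj g
    rcases (H989.Cov.cases_plus hF hQ' (plusOn hs) hM).resolve_right (hres Q hs M hM) with
      h | ⟨t, m, D, ht, hm', hD, h⟩ | ⟨r, K, hr, hK, h⟩
    · exact Or.inl (red_mono hHM h)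
    · exact (H989.Cov.kill_dec (by norm_num) bB hx ht hm' hD h).elim
    · rcases hr with rfl | rfl
      · exact Or.inr ⟨K, hK, hHM.trans h⟩
      · exact (H989.Cov.fld_kill hK (h hx) (bB.coprime (Or.inr rfl)) (by rw [bB.blk.rk]; norm_num)).elim
  intro α hα
  have hInd : AutOrth.Main.Ind ⇑Q α := AutOrth.Main.ind_of_no_four hG (by rw [hn]; norm_num) (fun h => by
    rw [hn] at h
    norm_num at h) α
  exact spr_coreB hG og hA (a := 5) (e := 1) (i := i) (by rw [hn]) le_rfl (by norm_num) (by norm_num) b1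
    (by rw [o1]; decide) (by rw [hn]; exact dA) hInd hα

end Cfsg.Agent.H637.Spr
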